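import Mathlib
import Groth.Prelude.Def_CAlg2

/-!
# Geometrically unibranch local rings of a domain, tested on field-valued points
-/

set_option autoImplicit false
set_option backward.isDefEq.respectTransparency false

universe u

namespace Groth.Agent.UnibranchLib

/-- Two points of `B` with values in a field which agree on `A` are equal. -/
def RadField {A B : Type u} [CommRing A] [CommRing B] (φ : A →+* B) : Prop :=
  ∀ (K : Type u) [Field K] (g g' : B →+* K), g.comp φ = g'.comp φ → g = g'

/-- Points of an integral extension `N` of the local ring `R` lying over the closed point agree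
as soon as `N` is local with purely inseparable residue field, and conversely. -/
theorem radField_closed_iff {R N : Type u} [CommRing R] [IsLocalRing R] [CommRing N] [Nontrivial N]
    (φ : R →+* N) (hφ : φ.IsIntegral) :
    (∀ (K : Type u) [Field K] (g g' : N →+* K), g.comp φ = g'.comp φ →
        RingHom.ker (g.comp φ) = IsLocalRing.maximalIdeal R → g = g') ↔
      (IsLocalRing N ∧ ∀ (M : Ideal N) [M.IsMaximal], ∀ x : N ⧸ M, ∃ n : ℕ,
        x ^ (ringExpChar (N ⧸ M)) ^ n ∈ ((Ideal.Quotient.mk M).comp φ).range) := by
  classical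
  have hmax : ∀ (M : Ideal N) [M.IsMaximal], M.comap φ = IsLocalRing.maximalIdeal R := fun M _ =>
    IsLocalRing.eq_maximalIdeal (Ideal.isMaximal_comap_of_isIntegral_of_isMaximal' φ hφ M)
  constructor
  · intro h
    letI k := IsLocalRing.ResidueField R
    have res : ∀ (M : Ideal N) [M.IsMaximal], ∃ ψ : IsLocalRing.ResidueField R →+* N ⧸ M,
        ψ.comp (IsLocalRing.residue R) = (Ideal.Quotient.mk M).comp φ ∧ ψ.IsIntegral := by
      intro M _
      refine ⟨Ideal.Quotient.lift (IsLocalRing.maximalIdeal R) ((Ideal.Quotient.mk M).comp φ)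
        fun a ha => ?_, Ideal.Quotient.lift_comp_mk _ _ _, ?_⟩
      · rw [← hmax M] at ha
        exact Ideal.Quotient.eq_zero_iff_mem.2 ha
      · exact RingHom.IsIntegral.tower_top (Ideal.Quotient.mk _) _ (by
          rw [Ideal.Quotient.lift_comp_mk]
          exact RingHom.IsIntegral.trans _ _ hφ (RingHom.isIntegral_of_surjective _ Ideal.Quotient.mk_surjective))
    have key : ∀ (M M' : Ideal N) [M.IsMaximal] [M'.IsMaximal]
        (σ : N ⧸ M →+* AlgebraicClosure k) (σ' : N ⧸ M' →+* AlgebraicClosure k),
        σ.comp ((Ideal.Quotient.mk M).comp φ) = (algebraMap k (AlgebraicClosure k)).comp (IsLocalRing.residue R) →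
        σ'.comp ((Ideal.Quotient.mk M').comp φ) = (algebraMap k (AlgebraicClosure k)).comp (IsLocalRing.residue R) →
        σ.comp (Ideal.Quotient.mk M) = σ'.comp (Ideal.Quotient.mk M') := by
      intro M M' _ _ σ σ' hσ hσ'
      refine h _ _ _ (by rw [RingHom.comp_assoc, hσ, RingHom.comp_assoc, hσ']) ?_
      rw [RingHom.comp_assoc, hσ, RingHom.ker_comp_of_injective _ (algebraMap k (AlgebraicClosure k)).injective]
      exact IsLocalRing.ker_residue
    have emb : ∀ (M : Ideal N) [M.IsMaximal], ∃ σ : N ⧸ M →+* AlgebraicClosure k,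
        σ.comp ((Ideal.Quotient.mk M).comp φ) = (algebraMap k (AlgebraicClosure k)).comp (IsLocalRing.residue R) := by
      intro M _
      obtain ⟨ψ, hψ, hψi⟩ := res M
      letI := Ideal.Quotient.field M
      letI := ψ.toAlgebra
      haveI : Algebra.IsIntegral k (N ⧸ M) := ⟨hψi⟩
      haveI : Algebra.IsAlgebraic k (N ⧸ M) := inferInstance
      let σ : (N ⧸ M) →ₐ[k] AlgebraicClosure k := IsAlgClosed.lift
      exact ⟨σ.toRingHom, by rw [← hψ, ← RingHom.comp_assoc]; congr 1; exact σ.comp_algebraMap⟩
    constructor
    · obtain ⟨M₀, hM₀⟩ := Ideal.exists_maximal N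
      refine IsLocalRing.of_unique_max_ideal ⟨M₀, hM₀, fun M hM => ?_⟩
      haveI := hM₀; haveI : M.IsMaximal := hM
      obtain ⟨σ, hσ⟩ := emb M
      obtain ⟨σ', hσ'⟩ := emb M₀
      letI := Ideal.Quotient.field M
      letI := Ideal.Quotient.field M₀
      have := congrArg RingHom.ker (key M M₀ σ σ' hσ hσ')
      rwa [RingHom.ker_comp_of_injective _ σ.injective, RingHom.ker_comp_of_injective _ σ'.injective,
        Ideal.mk_ker, Ideal.mk_ker] at this
    · intro M _ x
      obtain ⟨ψ, hψ, hψi⟩ := res M
      letI := Ideal.Quotient.field M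
      letI := ψ.toAlgebra
      haveI : Algebra.IsIntegral k (N ⧸ M) := ⟨hψi⟩
      haveI : Algebra.IsAlgebraic k (N ⧸ M) := inferInstance
      haveI : IsPurelyInseparable k (N ⧸ M) := by
        rw [isPurelyInseparable_iff_subsingleton_emb]
        refine ⟨fun σ σ' => ?_⟩
        let e : AlgebraicClosure (N ⧸ M) →ₐ[k] AlgebraicClosure k := IsAlgClosed.lift
        have := key M M (e.comp σ).toRingHom (e.comp σ').toRingHom
          (by rw [← hψ, ← RingHom.comp_assoc]; congr 1; exact (e.comp σ).comp_algebraMap)
          (by rw [← hψ, ← RingHom.comp_assoc]; congr 1; exact (e.comp σ').comp_algebraMap)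
        refine AlgHom.ext fun y => ?_
        obtain ⟨z, rfl⟩ := Ideal.Quotient.mk_surjective y
        exact e.toRingHom.injective (RingHom.congr_fun this z)
      haveI : ExpChar k (ringExpChar (N ⧸ M)) := RingHom.expChar _ ψ.injective _
      obtain ⟨n, y, hy⟩ := IsPurelyInseparable.pow_mem k (ringExpChar (N ⧸ M)) x
      obtain ⟨r, rfl⟩ := IsLocalRing.residue_surjective y
      exact ⟨n, r, by rw [← hy, ← RingHom.congr_fun hψ r]; rfl⟩
  · rintro ⟨hloc, hp⟩ K _ g g' hgg hker
    have hM : ∀ g : N →+* K, RingHom.ker (g.comp φ) = IsLocalRing.maximalIdeal R →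
        RingHom.ker g = IsLocalRing.maximalIdeal N := fun g hg => by
      haveI : (RingHom.ker g).IsPrime := RingHom.ker_isPrime g
      refine IsLocalRing.eq_maximalIdeal ?_
      refine Ideal.isMaximal_of_isIntegral_of_isMaximal_comap' φ hφ _ ?_
      rw [RingHom.comap_ker, hg]
      infer_instance
    have h1 := hM g hker
    have h2 := hM g' (hgg ▸ hker)
    letI := Ideal.Quotient.field (IsLocalRing.maximalIdeal N)
    let G := Ideal.Quotient.lift (IsLocalRing.maximalIdeal N) g fun a ha => by rwa [← h1] at ha
    let G' := Ideal.Quotient.lift (IsLocalRing.maximalIdeal N) g' fun a ha => by rwa [← h2] at ha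
    haveI : ExpChar K (ringExpChar (N ⧸ IsLocalRing.maximalIdeal N)) :=
      expChar_of_injective_ringHom G.injective _
    refine RingHom.ext fun z => ?_
    obtain ⟨n, r, hr⟩ := hp (IsLocalRing.maximalIdeal N) (Ideal.Quotient.mk _ z)
    apply iterateFrobenius_inj K (ringExpChar (N ⧸ IsLocalRing.maximalIdeal N)) n
    simp only [iterateFrobenius_def]
    have e1 := congrArg G hr
    have e2 := congrArg G' hr
    rw [map_pow] at e1 e2
    exact e1.symm.trans ((RingHom.congr_fun hgg r).trans e2)

variable {A : Type u} [CommRing A] [IsDomain A]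

/-- Geometric unibranchness of a local ring `S = A_p` of a domain, on field-valued points of the
integral closure of `A`. -/
theorem isGeomUnibranch_iff_points (L₀ : Type u) [Field L₀] [Algebra A L₀] [IsFractionRing A L₀]
    (p : Ideal A) [p.IsPrime] (S : Type u) [CommRing S] [IsLocalRing S] [Algebra A S]
    [IsLocalization.AtPrime S p] :
    CAlg2.IsGeomUnibranch S ↔
      ∀ (K : Type u) [Field K] (g g' : integralClosure A L₀ →+* K),
        g.comp (algebraMap A _) = g'.comp (algebraMap A _) →
        RingHom.ker (g.comp (algebraMap A _)) = p → g = g' := by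
  classical
  haveI : IsDomain S :=
    IsLocalization.isDomain_of_le_nonZeroDivisors (R := A) (M := p.primeCompl) S
      p.primeCompl_le_nonZeroDivisors
  have h0 : nilradical S = ⊥ := nilradical_eq_bot_iff.2 inferInstance
  let R := CAlg2.red S
  let e : S ≃ₐ[A] R :=
    AlgEquiv.ofBijective (Ideal.Quotient.mkₐ A (nilradical S))
      ⟨by
        rw [injective_iff_map_eq_zero]
        intro x hx
        have hx' : x ∈ nilradical S := Ideal.Quotient.eq_zero_iff_mem.1 hx
        rwa [h0, Ideal.mem_bot] at hx', Ideal.Quotient.mk_surjective⟩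
  haveI hR : IsLocalization.AtPrime R p := IsLocalization.isLocalization_of_algEquiv p.primeCompl e
  haveI hd : IsDomain R := e.symm.toMulEquiv.isDomain
  haveI : IsLocalRing R := IsLocalRing.of_surjective' e.toAlgHom.toRingHom e.surjective
  let L := FractionRing R
  have hinjR : Function.Injective (algebraMap A R) :=
    IsLocalization.injective R p.primeCompl_le_nonZeroDivisors
  haveI : FaithfulSMul A L := (faithfulSMul_iff_algebraMap_injective A L).2
    ((IsFractionRing.injective R L).comp hinjR)
  haveI : IsFractionRing A L := by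
    refine IsFractionRing.of_field A L fun z => ?_
    obtain ⟨r, t, ht, rfl⟩ := IsFractionRing.div_surjective (A := R) z
    obtain ⟨⟨a, s⟩, hs⟩ := IsLocalization.surj p.primeCompl r
    obtain ⟨⟨b, w⟩, hw⟩ := IsLocalization.surj p.primeCompl t
    refine ⟨a * w, b * s, ?_⟩
    have ht0 : algebraMap R L t ≠ 0 :=
      IsFractionRing.to_map_ne_zero_of_mem_nonZeroDivisors ht
    have hs0 : algebraMap A L (s : A) ≠ 0 := by
      rw [map_ne_zero_iff _ (FaithfulSMul.algebraMap_injective A L)]
      exact fun h => s.2 (h ▸ p.zero_mem)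
    have hw0 : algebraMap A L (w : A) ≠ 0 := by
      rw [map_ne_zero_iff _ (FaithfulSMul.algebraMap_injective A L)]
      exact fun h => w.2 (h ▸ p.zero_mem)
    have e1 : algebraMap R L r * algebraMap A L (s : A) = algebraMap A L a := by
      rw [IsScalarTower.algebraMap_apply A R L (s : A), IsScalarTower.algebraMap_apply A R L a,
        ← map_mul, hs]
    have e2 : algebraMap R L t * algebraMap A L (w : A) = algebraMap A L b := by
      rw [IsScalarTower.algebraMap_apply A R L (w : A), IsScalarTower.algebraMap_apply A R L b,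
        ← map_mul, hw]
    rw [map_mul, map_mul, ← e1, ← e2, div_eq_div_iff ht0 (mul_ne_zero (mul_ne_zero ht0 hw0) hs0)]
    ring
  let ε : integralClosure A L₀ ≃ₐ[A] integralClosure A L :=
    (IsLocalization.algEquiv (nonZeroDivisors A) L₀ L).mapIntegralClosure
  let N := integralClosure R L
  let ι : integralClosure A L →+* N :=
    ((integralClosure A L).val.toRingHom).codRestrict N fun x =>
      (x.2 : IsIntegral A (x : L)).tower_top
  letI : Algebra (integralClosure A L) N := ι.toAlgebra
  haveI hloc : IsLocalization (Algebra.algebraMapSubmonoid (integralClosure A L) p.primeCompl) N := by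
    refine ⟨?_, ?_, ?_⟩
    · rintro ⟨_, s, hs, rfl⟩
      have := (IsLocalization.map_units R (⟨s, hs⟩ : p.primeCompl)).map (algebraMap R N)
      have heq : algebraMap (integralClosure A L) N (algebraMap A (integralClosure A L) s) =
          algebraMap R N (algebraMap A R s) := Subtype.ext (IsScalarTower.algebraMap_apply A R L s)
      show IsUnit (algebraMap (integralClosure A L) N (algebraMap A (integralClosure A L) s))
      rw [heq]
      exact this
    · intro z
      obtain ⟨⟨s, hs⟩, hint⟩ :=
        IsIntegral.exists_multiple_integral_of_isLocalization p.primeCompl (z : L) z.2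
      refine ⟨⟨⟨_, hint⟩, ⟨_, s, hs, rfl⟩⟩, Subtype.ext ?_⟩
      show (z : L) * algebraMap A L s = s • (z : L)
      rw [Algebra.smul_def, mul_comm]
    · intro x y hxy
      exact ⟨1, by rw [show x = y from Subtype.ext (congrArg (fun z : N => (z : L)) hxy)]⟩
  have hcomp : (algebraMap R N).comp (algebraMap A R) = ι.comp (algebraMap A (integralClosure A L)) :=
    RingHom.ext fun a => Subtype.ext (IsScalarTower.algebraMap_apply A R L a).symm
  have hiff := radField_closed_iff (algebraMap R N) (algebraMap_isIntegral_iff.2 inferInstance)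
  have hg : CAlg2.IsGeomUnibranch S ↔ (IsLocalRing N ∧ ∀ (M : Ideal N) [M.IsMaximal], ∀ x : N ⧸ M,
      ∃ n : ℕ, x ^ (ringExpChar (N ⧸ M)) ^ n ∈ ((Ideal.Quotient.mk M).comp (algebraMap R N)).range) := by
    constructor
    · rintro ⟨⟨-, hl⟩, hp⟩
      refine ⟨hl, fun M _ x => ?_⟩
      obtain ⟨n, a, ha⟩ := hp M x
      exact ⟨n, Ideal.Quotient.mk (nilradical S) a, ha⟩
    · rintro ⟨hl, hp⟩
      refine ⟨⟨hd, hl⟩, fun M _ x => ?_⟩
      obtain ⟨n, r, hr⟩ := hp M x
      obtain ⟨a, rfl⟩ := Ideal.Quotient.mk_surjective r
      exact ⟨n, a, hr⟩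
  rw [hg, ← hiff]
  constructor
  · intro h K _ g g' hgg hker
    have hu : ∀ (g : integralClosure A L₀ →+* K), RingHom.ker (g.comp (algebraMap A _)) = p →
        ∀ s : Algebra.algebraMapSubmonoid (integralClosure A L) p.primeCompl,
          IsUnit ((g.comp ε.symm.toAlgHom.toRingHom) s) := by
      rintro g hg ⟨_, s, hs, rfl⟩
      refine isUnit_iff_ne_zero.2 fun h0 => hs ?_
      rw [← hg]
      show g (algebraMap A _ s) = 0
      rw [← h0]
      exact congrArg g (ε.symm.commutes s).symm
    let G : N →+* K := IsLocalization.lift (hu g hker)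
    let G' : N →+* K := IsLocalization.lift (hu g' (hgg ▸ hker))
    have hG : ∀ a, G (algebraMap R N (algebraMap A R a)) = g (algebraMap A _ a) := fun a => by
      rw [← RingHom.comp_apply (algebraMap R N), hcomp]
      exact (IsLocalization.lift_eq _ _).trans (congrArg g (ε.symm.commutes a))
    have hG' : ∀ a, G' (algebraMap R N (algebraMap A R a)) = g' (algebraMap A _ a) := fun a => by
      rw [← RingHom.comp_apply (algebraMap R N), hcomp]
      exact (IsLocalization.lift_eq _ _).trans (congrArg g' (ε.symm.commutes a))
    have hGG : G = G' := by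
      refine h K G G' ?_ ?_
      · refine IsLocalization.ringHom_ext p.primeCompl (RingHom.ext fun a => ?_)
        exact (hG a).trans ((RingHom.congr_fun hgg a).trans (hG' a).symm)
      · haveI : (RingHom.ker (G.comp (algebraMap R N))).IsPrime := RingHom.ker_isPrime _
        have hc : (RingHom.ker (G.comp (algebraMap R N))).under A = p := by
          ext a
          rw [Ideal.under, Ideal.mem_comap, RingHom.mem_ker, RingHom.comp_apply, hG, ← hker]
          rfl
        rw [← IsLocalization.map_comap p.primeCompl R (RingHom.ker (G.comp (algebraMap R N))), hc,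
          IsLocalization.AtPrime.map_eq_maximalIdeal]
    refine RingHom.ext fun x => ?_
    have := RingHom.congr_fun hGG (ι (ε x))
    rw [show ι (ε x) = algebraMap (integralClosure A L) N (ε x) from rfl, IsLocalization.lift_eq,
      IsLocalization.lift_eq] at this
    simpa using this
  · intro h K _ G G' hGG hker
    refine IsLocalization.ringHom_ext (Algebra.algebraMapSubmonoid (integralClosure A L) p.primeCompl) ?_
    have e : ∀ (G : N →+* K), ((G.comp ι).comp ε.toAlgHom.toRingHom).comp (algebraMap A _) =
        (G.comp (algebraMap R N)).comp (algebraMap A R) := fun G => by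
      refine RingHom.ext fun a => ?_
      show G (ι (ε (algebraMap A _ a))) = G (algebraMap R N (algebraMap A R a))
      rw [ε.commutes]
      exact congrArg G (RingHom.congr_fun hcomp a).symm
    have := h K ((G.comp ι).comp ε.toAlgHom.toRingHom) ((G'.comp ι).comp ε.toAlgHom.toRingHom)
      (by rw [e, e, hGG]) (by
        rw [e, ← RingHom.comap_ker, hker]
        exact IsLocalization.AtPrime.comap_maximalIdeal R p)
    refine RingHom.ext fun x => ?_
    show G (ι x) = G' (ι x)
    simpa using RingHom.congr_fun this (ε.symm x)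

/-- Geometric unibranchness of all local rings of a domain, on field-valued points of its integral
closure. -/
theorem radField_integralClosure_iff (L₀ : Type u) [Field L₀] [Algebra A L₀] [IsFractionRing A L₀] :
    RadField (algebraMap A (integralClosure A L₀)) ↔
      ∀ (p : Ideal A) [p.IsPrime], CAlg2.IsGeomUnibranch (Localization.AtPrime p) := by
  have main := fun (p : Ideal A) [p.IsPrime] =>
    isGeomUnibranch_iff_points L₀ p (Localization.AtPrime p)
  constructor
  · intro h p _
    exact (main p).2 fun K _ g g' hgg _ => h K g g' hgg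
  · intro h K _ g g' hgg
    haveI : (RingHom.ker (g.comp (algebraMap A (integralClosure A L₀)))).IsPrime :=
      RingHom.ker_isPrime _
    exact (main _).1 (h _) K g g' hgg rfl

end Groth.Agent.UnibranchLib
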